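import Mathlib
import Cfsg.Prelude.Def_OddOrderLocal
import Cfsg.Agent.Lib.PGroup.Class2
import Cfsg.Agent.Lib.PGroup.Frattini
import Cfsg.Agent.Lib.FewOrders.Norm

/-! Two-generated 2-groups with an automorphism of odd order; metacyclic ones are `Q₈` or
homocyclic. -/

namespace CfsgLib.MetaTwoAut

open Subgroup
open scoped commutatorElement

/-- No subgroup of index two is invariant under `α`. -/
def NoInv {X : Type*} [Group X] (α : MulAut X) : Prop :=
  ∀ M : Subgroup X, M.index = 2 → M.map α.toMonoidHom ≠ M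

theorem noInv_of_odd {X : Type*} [Group X] [Finite X] (hX : IsPGroup 2 X) {a b : X}
    (hgen : closure ({a, b} : Set X) = ⊤) (α : MulAut X) {q : ℕ} (hq : q.Prime) (hq2 : q ≠ 2)
    (hαq : α ^ q = 1) (hα : α ≠ 1) : NoInv α := by
  classical
  intro M hM hMα
  have : M.Normal := normal_of_index_eq_two hM
  have : Fact q.Prime := ⟨hq⟩
  have : Fact (Nat.Prime 2) := ⟨Nat.prime_two⟩
  obtain ⟨u, v, huM, hvM, hgen'⟩ : ∃ u v : X, u ∈ M ∧ v ∉ M ∧ closure ({u, v} : Set X) = ⊤ := by
    have hne : ¬ (a ∈ M ∧ b ∈ M) := fun h => by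
      have : (⊤ : Subgroup X) ≤ M := hgen ▸ (closure_le _).2 (by rintro x (rfl | rfl) <;> simp [h.1, h.2])
      rw [top_le_iff] at this
      rw [this, index_top] at hM
      omega
    by_cases ha : a ∈ M
    · exact ⟨a, b, ha, fun h => hne ⟨ha, h⟩, hgen⟩
    by_cases hb : b ∈ M
    · exact ⟨b, a, hb, ha, by rw [Set.pair_comm]; exact hgen⟩
    refine ⟨a * b, b, (mul_mem_iff_of_index_two hM).2 (by simp [ha, hb]), hb, ?_⟩
    refine top_le_iff.1 (hgen ▸ (closure_le _).2 ?_)
    rintro x (rfl | rfl)
    · have := mul_mem (mem_closure_of_mem (show x * b ∈ ({x * b, b} : Set X) from Set.mem_insert _ _))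
        (inv_mem (mem_closure_of_mem (show b ∈ ({x * b, b} : Set X) from Set.mem_insert_of_mem _ rfl)))
      simpa using this
    · exact mem_closure_of_mem (Set.mem_insert_of_mem _ rfl)
  set Φ := frattini X with hΦ
  have hΦM : Φ ≤ M := frattini_le_coatom (show IsCoatom M by
    refine ⟨fun h => by rw [h, index_top] at hM; omega, fun K hK => ?_⟩
    have h1 := relIndex_mul_index hK.le
    rw [hM] at h1
    rcases (Nat.dvd_prime Nat.prime_two).1 (Dvd.intro_left _ h1) with h | h
    · exact index_eq_one.1 h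
    · rw [h] at h1
      have : M.relIndex K = 1 := by omega
      exact absurd (le_antisymm hK.le (relIndex_eq_one.1 this)) hK.ne)
  -- the induced map on `X ⧸ Φ`
  have : Φ.Characteristic := inferInstance
  let π := QuotientGroup.mk' Φ
  have hsq : ∀ y : X ⧸ Φ, y * y = 1 := by
    intro y
    obtain ⟨x, rfl⟩ := QuotientGroup.mk'_surjective Φ y
    rw [← map_mul, ← sq]
    exact (QuotientGroup.eq_one_iff _).2 (CfsgLib.PGroup.pow_mem_frattini hX x)
  have hcomm : ∀ y z : X ⧸ Φ, y * z = z * y := by
    intro y z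
    have h1 := hsq (y * z)
    have hy : y⁻¹ = y := inv_eq_of_mul_eq_one_right (hsq y)
    have hz : z⁻¹ = z := inv_eq_of_mul_eq_one_right (hsq z)
    calc y * z = (y * z)⁻¹ := (inv_eq_of_mul_eq_one_right h1).symm
      _ = z * y := by rw [mul_inv_rev, hy, hz]
  let _ : CommGroup (X ⧸ Φ) := { mul_comm := hcomm }
  have hgq : closure ({π u, π v} : Set (X ⧸ Φ)) = ⊤ := by
    have := congrArg (Subgroup.map π) hgen'
    rwa [MonoidHom.map_closure, map_top_of_surjective _ (QuotientGroup.mk'_surjective Φ),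
      Set.image_pair] at this
  have hcases : ∀ y : X ⧸ Φ, ∃ i j : ℕ, i < 2 ∧ j < 2 ∧ y = π u ^ i * π v ^ j := by
    intro y
    have hy : y ∈ closure ({π u, π v} : Set (X ⧸ Φ)) := hgq ▸ mem_top y
    obtain ⟨m, n, h⟩ := Subgroup.mem_closure_pair.1 hy
    have red : ∀ (t : X ⧸ Φ) (m : ℤ), ∃ i : ℕ, i < 2 ∧ t ^ m = t ^ i := by
      intro t m
      refine ⟨(m % 2).toNat, by omega, ?_⟩
      have h2 : t ^ (2 : ℤ) = 1 := by rw [show (2 : ℤ) = ((2 : ℕ) : ℤ) from rfl, zpow_natCast, sq]; exact hsq t
      rw [← zpow_natCast, Int.toNat_of_nonneg (by omega), ← Int.emod_add_mul_ediv m 2]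
      simp [zpow_add, zpow_mul, h2]
    obtain ⟨i, hi, hi'⟩ := red (π u) m
    obtain ⟨j, hj, hj'⟩ := red (π v) n
    exact ⟨i, j, hi, hj, by rw [← hi', ← hj', h]⟩
  let β : (X ⧸ Φ) →* X ⧸ Φ := QuotientGroup.map Φ Φ α.toMonoidHom
    (by rw [← Subgroup.map_le_iff_le_comap]; exact (Subgroup.characteristic_iff_map_eq.1 inferInstance α).le)
  have hβπ : ∀ x, β (π x) = π (α x) := fun x => rfl
  have hΦinv : ∀ x, α x ∈ Φ → x ∈ Φ := by
    intro x hx
    rw [← Subgroup.characteristic_iff_map_eq.1 (inferInstance : Φ.Characteristic) α] at hx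
    obtain ⟨y, hy, e⟩ := Subgroup.mem_map.1 hx
    rwa [← α.injective e]
  have hmem : ∀ x, π x = π u ∨ π x = 1 → x ∈ M := by
    intro x hx
    rcases hx with hx | hx
    · have := (QuotientGroup.eq.1 hx.symm)
      simpa using mul_mem huM (hΦM this)
    · exact hΦM ((QuotientGroup.eq_one_iff x).1 hx)
  have hnv : ∀ x, π x = π v → x ∉ M := by
    intro x hx h
    have := QuotientGroup.eq.1 hx
    exact hvM (by simpa using mul_mem h (hΦM this))
  have hMcases : ∀ x ∈ M, π x = 1 ∨ π x = π u := by
    intro x hx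
    obtain ⟨i, j, hi, hj, e⟩ := hcases (π x)
    interval_cases j
    · interval_cases i <;> simp_all
    · exfalso
      interval_cases i
      · exact hnv x (by simpa using e) hx
      · refine hnv (u⁻¹ * x) ?_ (mul_mem (inv_mem huM) hx)
        rw [map_mul, map_inv, e]; simp
  have hu : π (α u) = π u := by
    rcases hMcases (α u) (hMα ▸ mem_map_of_mem _ huM) with h | h
    · have : π u = 1 := (QuotientGroup.eq_one_iff u).2 (hΦinv u ((QuotientGroup.eq_one_iff _).1 h))
      rw [h, this]
    · exact h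
  have hv : ∃ w, (w = 1 ∨ w = π u) ∧ π (α v) = w * π v := by
    obtain ⟨i, j, hi, hj, e⟩ := hcases (π (α v))
    interval_cases j
    · exfalso
      have : α v ∈ M := hmem _ (by interval_cases i <;> simp_all)
      rw [← hMα] at this
      obtain ⟨y, hy, e'⟩ := Subgroup.mem_map.1 this
      exact hvM (α.injective e' ▸ hy)
    · exact ⟨π u ^ i, by interval_cases i <;> simp, by simpa using e⟩
  obtain ⟨w, hw, hv⟩ := hv
  -- `β ^ 2` is trivial, hence so is `β`
  have hββ : ∀ y, β (β y) = y := by
    have : β.comp β = MonoidHom.id _ := MonoidHom.eq_of_eqOn_dense hgq (by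
      rintro y (rfl | rfl)
      · simp only [MonoidHom.comp_apply, MonoidHom.id_apply, hβπ]
        rw [← hβπ, hu, hβπ, hu]
      · simp only [MonoidHom.comp_apply, MonoidHom.id_apply, hβπ]
        rw [← hβπ, hv, map_mul, hβπ, hv]
        rcases hw with rfl | rfl
        · simp
        · rw [hβπ, hu, ← mul_assoc, hsq, one_mul])
    exact fun y => congrArg (fun f => f y) this
  have hβn : ∀ (n : ℕ) x, π ((α ^ n) x) = (β^[n]) (π x) := by
    intro n
    induction n with
    | zero => simp
    | succ n ih =>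
      intro x
      rw [pow_succ', MulAut.mul_apply, ← hβπ, ih, Function.iterate_succ_apply']
  have hβid : ∀ x, π (α x) = π x := by
    intro x
    obtain ⟨k, hk⟩ := hq.odd_of_ne_two hq2
    have h1 := hβn q x
    have h2 : ∀ k y, (β^[2 * k]) y = y := by
      intro k y
      induction k with
      | zero => simp
      | succ k ih => rw [Nat.mul_succ, Function.iterate_add_apply]; simp [hββ, ih]
    rw [hαq, MulAut.one_apply, hk, show 2 * k + 1 = (2 * k).succ from rfl, Function.iterate_succ_apply', h2, hβπ] at h1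
    exact h1.symm
  -- fixed points in the cosets
  have hfix : ∀ x : X, ∃ x', π x' = π x ∧ α x' = x' := by
    intro x
    let S := {y : X // π y = π x}
    have : Fintype S := Fintype.ofFinite S
    let σ : Equiv.Perm S := α.toEquiv.subtypeEquiv (fun y => by
      show π y = π x ↔ π (α y) = π x
      rw [hβid])
    have hσ : ∀ (n : ℕ) (s : S), ((σ ^ n) s).1 = (α ^ n) s.1 := by
      intro n
      induction n with
      | zero => simp
      | succ n ih =>
        intro s
        rw [pow_succ', Equiv.Perm.mul_apply, pow_succ', MulAut.mul_apply, ← ih]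
        rfl
    have hcard : ¬ q ∣ Fintype.card S := by
      rw [Fintype.card_eq_nat_card]
      have e : Nat.card S = Nat.card Φ := Nat.card_congr
        { toFun := fun y => ⟨x⁻¹ * y.1, QuotientGroup.eq.1 y.2.symm⟩
          invFun := fun t => ⟨x * t.1, by rw [map_mul]; simp [π]⟩
          left_inv := fun y => by ext; simp
          right_inv := fun t => by ext; simp }
      rw [e]
      obtain ⟨m, hm⟩ := IsPGroup.iff_card.1 (hX.to_subgroup Φ)
      rw [hm]
      intro hd
      exact hq2 ((Nat.prime_dvd_prime_iff_eq hq Nat.prime_two).1 (hq.dvd_of_dvd_pow hd))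
    obtain ⟨s, hs⟩ := Equiv.Perm.exists_fixed_point_of_prime (n := 1) hcard
      (σ := σ) (by ext s; rw [pow_one, hσ, hαq]; rfl)
    exact ⟨s.1, s.2, congrArg Subtype.val hs⟩
  obtain ⟨u', hu', hu''⟩ := hfix u
  obtain ⟨v', hv', hv''⟩ := hfix v
  have hgen'' : closure ({u', v'} : Set X) = ⊤ := by
    refine frattini_nongenerating (eq_top_iff.2 fun x _ => ?_)
    have hx : π x ∈ (closure ({u', v'} : Set X)).map π := by
      rw [MonoidHom.map_closure, Set.image_pair, hu', hv', hgq]; exact mem_top _
    obtain ⟨y, hy, e⟩ := Subgroup.mem_map.1 hx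
    simpa using mul_mem (Subgroup.mem_sup_left (T := Φ) hy) (Subgroup.mem_sup_right (QuotientGroup.eq.1 e))
  refine hα (MulEquiv.toMonoidHom_injective ?_)
  exact MonoidHom.eq_of_eqOn_dense hgen'' (by rintro y (rfl | rfl) <;> simp [hu'', hv''])

/-- Two elements of order two in the cyclic group generated by `x` coincide. -/
theorem zpowers_involution_unique {X : Type*} [Group X] [Finite X] {x u v : X} (hu : u ∈ zpowers x)
    (hv : v ∈ zpowers x) (hu2 : orderOf u = 2) (hv2 : orderOf v = 2) : u = v := by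
  classical
  have := Fintype.ofFinite (zpowers x)
  have huniq := IsCyclic.card_pow_eq_one_le (α := zpowers x) (n := 2) (by norm_num)
  by_contra hne
  have h3 : ({1, ⟨u, hu⟩, ⟨v, hv⟩} : Finset (zpowers x)) ⊆ Finset.univ.filter (fun y => y ^ 2 = 1) := by
    intro y hy
    simp only [Finset.mem_insert, Finset.mem_singleton] at hy
    rw [Finset.mem_filter]
    refine ⟨Finset.mem_univ _, ?_⟩
    rcases hy with rfl | rfl | rfl
    · simp
    · ext; simpa [hu2] using pow_orderOf_eq_one u
    · ext; simpa [hv2] using pow_orderOf_eq_one v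
  have hc := (Finset.card_le_card h3).trans huniq
  have h1u : u ≠ 1 := fun h => by simp [h] at hu2
  have h1v : v ≠ 1 := fun h => by simp [h] at hv2
  rw [Finset.card_insert_of_notMem (by simp [Subtype.ext_iff, Ne.symm h1u, Ne.symm h1v]),
    Finset.card_insert_of_notMem (by simp [Subtype.ext_iff, hne])] at hc
  simp at hc

/-- An abelian two-generated 2-group without invariant maximal subgroup is homocyclic. -/
theorem homocyclic {A : Type*} [CommGroup A] [Finite A] (hA : IsPGroup 2 A) (α : MulAut A)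
    (hno : NoInv α) :
    ∃ n : ℕ, (∀ x : A, x ^ 2 ^ n = 1) ∧
      ∀ a b : A, closure ({a, b} : Set A) = ⊤ →
        orderOf a = 2 ^ n ∧ orderOf b = 2 ^ n ∧ Disjoint (zpowers a) (zpowers b) := by
  classical
  have : Fact (Nat.Prime 2) := ⟨Nat.prime_two⟩
  obtain ⟨g, hg⟩ := Monoid.exists_orderOf_eq_exponent (G := A) Monoid.ExponentExists.of_finite
  obtain ⟨n, hn⟩ := IsPGroup.iff_orderOf.1 hA g
  have hexp : ∀ x : A, x ^ 2 ^ n = 1 := fun x => by
    rw [← hn, hg]; exact Monoid.pow_exponent_eq_one x
  refine ⟨n, hexp, fun a b hgen => ?_⟩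
  rcases n with _ | m
  · have h1 : ∀ x : A, x = 1 := fun x => by simpa using hexp x
    refine ⟨by simp [h1 a], by simp [h1 b], ?_⟩
    rw [disjoint_def]
    exact fun {x} _ _ => h1 x
  set h : A →* A := powMonoidHom (2 ^ m) with hh
  have hh' : ∀ x, h x = x ^ 2 ^ m := fun x => rfl
  have hh2 : ∀ x, h x ^ 2 = 1 := fun x => by rw [hh', ← pow_mul, ← pow_succ]; exact hexp x
  have hinv : h.ker.map α.toMonoidHom = h.ker := by
    ext x
    constructor
    · rintro ⟨y, hy, rfl⟩
      rw [MonoidHom.mem_ker] at *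
      show (α y) ^ 2 ^ m = 1
      rw [← map_pow]
      rw [show y ^ 2 ^ m = 1 from hy, map_one]
    · intro hx
      refine ⟨α.symm x, ?_, by simp⟩
      rw [SetLike.mem_coe, MonoidHom.mem_ker, hh', ← map_pow]
      rw [show x ^ 2 ^ m = 1 from hx, map_one]
  have hgne : h g ≠ 1 := fun e => by
    have := orderOf_dvd_of_pow_eq_one (show g ^ 2 ^ m = 1 from e)
    rw [hn, Nat.pow_dvd_pow_iff_le_right (by norm_num)] at this
    omega
  have hrange : h.range ≤ closure ({h a, h b} : Set A) := by
    rw [MonoidHom.range_eq_map, ← hgen, MonoidHom.map_closure, Set.image_pair]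
  have hsmall : ∀ t : A, t ^ 2 = 1 → ¬ (h a ∈ zpowers t ∧ h b ∈ zpowers t) := by
    intro t ht hab
    have hle : h.range ≤ zpowers t := hrange.trans ((closure_le _).2 (by
      rintro x (rfl | rfl)
      exacts [hab.1, hab.2]))
    refine hno h.ker ?_ hinv
    have hle2 : Nat.card h.range ≤ 2 := by
      refine (Nat.card_mono (Set.toFinite _) hle).trans ?_
      refine le_trans (le_of_eq (Nat.card_zpowers t)) ?_
      exact Nat.le_of_dvd (by norm_num) (orderOf_dvd_of_pow_eq_one ht)
    rw [index_ker]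
    have h1 : Nat.card h.range ≠ 1 := fun e => hgne (by
      have : h.range = ⊥ := eq_bot_of_card_eq _ e
      have hm : h g ∈ h.range := ⟨g, rfl⟩
      rw [this] at hm
      exact mem_bot.1 hm)
    have := Nat.card_pos (α := h.range)
    omega
  have ha1 : h a ≠ 1 := fun e => hsmall (h b) (hh2 b) ⟨e ▸ one_mem _, mem_zpowers _⟩
  have hb1 : h b ≠ 1 := fun e => hsmall (h a) (hh2 a) ⟨mem_zpowers _, e ▸ one_mem _⟩
  have hab : h a ≠ h b := fun e => hsmall (h b) (hh2 b) ⟨e ▸ mem_zpowers _, mem_zpowers _⟩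
  have hord : ∀ x, h x ≠ 1 → orderOf x = 2 ^ (m + 1) := fun x hx =>
    orderOf_eq_prime_pow hx (hexp x)
  refine ⟨hord a ha1, hord b hb1, ?_⟩
  rw [disjoint_iff, Subgroup.eq_bot_iff_forall]
  intro x hx
  by_contra hx1
  obtain ⟨k, hk⟩ := IsPGroup.iff_orderOf.1 hA x
  have hk0 : k ≠ 0 := fun e => hx1 (orderOf_eq_one_iff.1 (by rw [hk, e, pow_zero]))
  have hy : orderOf (x ^ 2 ^ (k - 1)) = 2 := by
    rw [orderOf_pow, hk, Nat.gcd_eq_right (pow_dvd_pow 2 (by omega)), Nat.pow_div (by omega) (by norm_num),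
      show k - (k - 1) = 1 by omega, pow_one]
  have hiv : ∀ y, h y ≠ 1 → orderOf (h y) = 2 := fun y hy => orderOf_eq_prime (hh2 y) hy
  refine hab ?_
  exact (zpowers_involution_unique (pow_mem hx.1 _) (pow_mem (mem_zpowers a) (2 ^ m)) hy (hiv a ha1)).symm.trans
    (zpowers_involution_unique (pow_mem hx.2 _) (pow_mem (mem_zpowers b) (2 ^ m)) hy (hiv b hb1))

set_option maxHeartbeats 2000000 in
theorem main {X : Type*} [Group X] [Finite X] (hX : IsPGroup 2 X) (hm : Cfsg.IsMetacyclic X)
    (hA : ¬ IsPGroup 2 (MulAut X)) :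
    Nonempty (X ≃* QuaternionGroup 2) ∨
      ∃ n : ℕ, Nonempty (X ≃* Multiplicative (ZMod (2 ^ n)) × Multiplicative (ZMod (2 ^ n))) := by
  classical
  have : Fact (Nat.Prime 2) := ⟨Nat.prime_two⟩
  obtain ⟨N, hN, hNc, hQc⟩ := hm
  obtain ⟨⟨a, haN⟩, ha⟩ := hNc.exists_generator
  obtain ⟨bq, hbq⟩ := hQc.exists_generator
  obtain ⟨b, rfl⟩ := QuotientGroup.mk_surjective bq
  have hNa : N = zpowers a := by
    refine le_antisymm (fun x hx => ?_) (zpowers_le.2 haN)
    obtain ⟨k, hk⟩ := ha ⟨x, hx⟩
    exact ⟨k, congrArg Subtype.val hk⟩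
  have hgen : closure ({a, b} : Set X) = ⊤ := by
    refine eq_top_iff.2 fun x _ => ?_
    obtain ⟨k, hk⟩ := hbq (QuotientGroup.mk x)
    have hmem : (b ^ k)⁻¹ * x ∈ N := QuotientGroup.eq.1 (by rw [← hk]; rfl)
    rw [hNa] at hmem
    obtain ⟨j, hj⟩ := hmem
    have : x = b ^ k * a ^ j := by rw [show a ^ j = (b ^ k)⁻¹ * x from hj, mul_inv_cancel_left]
    rw [this]
    exact mul_mem (zpow_mem (subset_closure (show b ∈ ({a, b} : Set X) from Or.inr rfl)) _)
      (zpow_mem (subset_closure (show a ∈ ({a, b} : Set X) from Or.inl rfl)) _)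
  -- an automorphism of odd prime order
  obtain ⟨α, q, hq, hq2, hαq, hα⟩ :
      ∃ (α : MulAut X) (q : ℕ), q.Prime ∧ q ≠ 2 ∧ α ^ q = 1 ∧ α ≠ 1 := by
    by_contra hcon
    refine hA (IsPGroup.of_card (n := (Nat.card (MulAut X)).primeFactorsList.length) ?_)
    refine Nat.eq_prime_pow_of_unique_prime_dvd Nat.card_pos.ne' fun {q} hq hd => ?_
    by_contra h2
    have : Fact q.Prime := ⟨hq⟩
    obtain ⟨α, hα⟩ := exists_prime_orderOf_dvd_card' q hd
    exact hcon ⟨α, q, hq, h2, hα ▸ pow_orderOf_eq_one α,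
      fun e => hq.ne_one (by rw [← hα, e, orderOf_one])⟩
  have hno := noInv_of_odd hX hgen α hq hq2 hαq hα
  -- the abelianization
  set C := commutator X with hC
  let αb : MulAut (Abelianization X) := α.abelianizationCongr
  have hsurj : Function.Surjective (Abelianization.of : X →* Abelianization X) :=
    QuotientGroup.mk'_surjective _
  have hnob : NoInv αb := by
    intro M hM hMα
    refine hno (M.comap Abelianization.of) ?_ ?_
    · rwa [index_comap_of_surjective _ hsurj]
    · ext x
      constructor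
      · rintro ⟨y, hy, rfl⟩
        rw [mem_comap] at *
        rw [← hMα]
        exact ⟨_, hy, by simp [αb, abelianizationCongr_of]⟩
      · intro hx
        refine ⟨α.symm x, ?_, by simp⟩
        rw [SetLike.mem_coe, mem_comap]
        rw [mem_comap, ← hMα] at hx
        obtain ⟨z, hz, e⟩ := hx
        obtain ⟨y, rfl⟩ := hsurj z
        have e' : αb (Abelianization.of y) = αb (Abelianization.of (α.symm x)) := by
          refine e.trans ?_
          simp [αb, abelianizationCongr_of]
        rw [← αb.injective e']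
        exact hz
  obtain ⟨n, hexp, hpair⟩ := homocyclic (hX.of_surjective _ hsurj) αb hnob
  have hgenb : ∀ a b : X, closure ({a, b} : Set X) = ⊤ →
      closure ({Abelianization.of a, Abelianization.of b} : Set (Abelianization X)) = ⊤ := by
    intro a b h
    have := congrArg (Subgroup.map (Abelianization.of (G := X))) h
    rwa [MonoidHom.map_closure, map_top_of_surjective _ hsurj,
      Set.image_pair] at this
  have hofC : ∀ x : X, Abelianization.of x = 1 ↔ x ∈ C := fun x => QuotientGroup.eq_one_iff x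
  obtain ⟨hoa, hob, hdis⟩ := hpair _ _ (hgenb a b hgen)
  by_cases hCbot : C = ⊥
  · -- abelian
    right
    refine ⟨n, ?_⟩
    have hinj : Function.Injective (Abelianization.of : X →* Abelianization X) := by
      rw [← MonoidHom.ker_eq_bot_iff, Abelianization.ker_of]; exact hCbot
    let eX : X ≃* Abelianization X :=
      MulEquiv.ofBijective _ ⟨hinj, hsurj⟩
    let f : zpowers (Abelianization.of a) × zpowers (Abelianization.of b) →* Abelianization X :=
      (zpowers (Abelianization.of a)).subtype.coprod (zpowers (Abelianization.of b)).subtype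
    have hf : Function.Bijective f := by
      refine ⟨?_, ?_⟩
      · rw [← MonoidHom.ker_eq_bot_iff, Subgroup.eq_bot_iff_forall]
        rintro ⟨⟨x, hx⟩, ⟨y, hy⟩⟩ hxy
        have e : x * y = 1 := hxy
        have hx1 : x = 1 := (Subgroup.disjoint_def.1 hdis) hx (by
          rw [eq_inv_of_mul_eq_one_left e]; exact inv_mem hy)
        have hy1 : y = 1 := by rw [hx1, one_mul] at e; exact e
        simp [hx1, hy1, Subtype.ext_iff, Prod.ext_iff]
      · rw [← MonoidHom.range_eq_top, eq_top_iff, ← hgenb a b hgen, closure_le]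
        rintro z (rfl | rfl)
        · exact ⟨(⟨_, mem_zpowers _⟩, 1), by simp [f]⟩
        · exact ⟨(1, ⟨_, mem_zpowers _⟩), by simp [f]⟩
    refine ⟨eX.trans ((MulEquiv.ofBijective f hf).symm.trans (MulEquiv.prodCongr ?_ ?_))⟩
    · exact (zmodCyclicMulEquiv (G := zpowers (Abelianization.of a)) inferInstance).symm.trans
        (AddEquiv.toMultiplicative (ZMod.ringEquivCongr (by rw [Nat.card_zpowers, hoa])).toAddEquiv)
    · exact (zmodCyclicMulEquiv (G := zpowers (Abelianization.of b)) inferInstance).symm.trans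
        (AddEquiv.toMultiplicative (ZMod.ringEquivCongr (by rw [Nat.card_zpowers, hob])).toAddEquiv)
  left
  -- `C` is cyclic, generated by a power of `a`
  have : C.Normal := by rw [hC]; infer_instance
  have hCN : C ≤ N := by
    have := hQc.isMulCommutative
    exact (Normal.quotient_commutative_iff_commutator_le (N := N)).1 this
  have : IsCyclic C := Subgroup.isCyclic_of_le hCN
  obtain ⟨⟨c, hcC⟩, hc⟩ := IsCyclic.exists_generator (α := C)
  have hCc : C = zpowers c := by
    refine le_antisymm (fun x hx => ?_) (zpowers_le.2 hcC)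
    obtain ⟨k, hk⟩ := hc ⟨x, hx⟩
    exact ⟨k, congrArg Subtype.val hk⟩
  have hc1 : c ≠ 1 := fun e => hCbot (by rw [hCc, e, zpowers_one_eq_bot])
  set D := zpowers (c ^ 2) with hD
  have hDC : D ≤ C := zpowers_le.2 (pow_mem hcC 2)
  have hcD : c ∉ D := by
    rintro ⟨k, hk⟩
    have hk' : c ^ (2 * k - 1) = 1 := by
      rw [zpow_sub, zpow_one, zpow_mul, show (2 : ℤ) = ((2 : ℕ) : ℤ) from rfl, zpow_natCast,
        show (c ^ 2) ^ k = c from hk, mul_inv_cancel]
    obtain ⟨j, hj⟩ := IsPGroup.iff_orderOf.1 hX c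
    have hd := orderOf_dvd_iff_zpow_eq_one.2 hk'
    rw [hj] at hd
    rcases j with _ | j
    · exact hc1 (orderOf_eq_one_iff.1 (by simpa using hj))
    · have : (2 : ℤ) ∣ 2 * k - 1 :=
        (dvd_pow_self (2 : ℤ) (Nat.succ_ne_zero j)).trans (by exact_mod_cast hd)
      omega
  have : D.Normal := ⟨fun x hx g => by
    obtain ⟨k, rfl⟩ := hx
    obtain ⟨i, hi⟩ := hCc ▸ (inferInstance : C.Normal).conj_mem c hcC g
    simp only at hi
    refine ⟨i * k, ?_⟩
    show (c ^ 2) ^ (i * k) = g * (c ^ 2) ^ k * g⁻¹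
    rw [← conj_zpow, ← conj_pow, ← hi, ← zpow_natCast c 2, ← zpow_natCast (c ^ i) 2, ← zpow_mul,
      ← zpow_mul, ← zpow_mul]
    congr 1
    ring⟩
  have hCD : ∀ x ∈ C, ∀ g : X, ⁅g, x⁆ ∈ D := by
    intro x hx g
    rw [hCc] at hx
    obtain ⟨k, rfl⟩ := hx
    obtain ⟨i, hi⟩ := hCc ▸ (inferInstance : C.Normal).conj_mem c hcC g
    simp only at hi
    rcases Int.even_or_odd i with ⟨j, hj⟩ | ⟨j, hj⟩
    · exfalso
      refine hcD ?_
      have hmem : g * c * g⁻¹ ∈ D := ⟨j, by
        show (c ^ 2) ^ j = g * c * g⁻¹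
        rw [← hi, hj, ← two_mul, zpow_mul]; norm_cast⟩
      simpa [mul_assoc] using (inferInstance : D.Normal).conj_mem _ hmem g⁻¹
    · refine ⟨j * k, ?_⟩
      show (c ^ 2) ^ (j * k) = ⁅g, c ^ k⁆
      rw [commutatorElement_def, ← conj_zpow, ← hi, ← zpow_mul, ← zpow_neg, ← zpow_add,
        ← zpow_natCast c, ← zpow_mul, hj]
      congr 1
      push_cast
      ring
  have hCa : C ≤ zpowers a := hNa ▸ hCN
  obtain ⟨k, hk⟩ := hCa hcC
  simp only at hk
  have hdvd : ((2 ^ n : ℕ) : ℤ) ∣ k := by
    rw [← hoa, orderOf_dvd_iff_zpow_eq_one, ← map_zpow, hofC, hk]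
    exact hcC
  have haC : a ^ 2 ^ n ∈ C := by rw [← hofC, map_pow, hexp]
  rcases n with _ | _ | n
  · exfalso
    have htop : (⊤ : Subgroup X) ≤ C := fun x _ => (hofC x).1 (by simpa using hexp (Abelianization.of x))
    have hX' : Nontrivial X := ⟨⟨c, 1, hc1⟩⟩
    obtain ⟨z, hz⟩ := exists_ne (1 : X)
    have : Group.IsNilpotent X := hX.isNilpotent
    have := IsSolvable.commutator_lt_top_of_nontrivial X
    exact this.ne (top_le_iff.1 htop)
  · -- `X/C` is a four-group
    have hCa2 : C = zpowers (a ^ 2) := by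
      refine le_antisymm ?_ (zpowers_le.2 (by simpa using haC))
      rw [hCc, zpowers_le]
      obtain ⟨j, hj⟩ := hdvd
      refine ⟨j, ?_⟩
      show (a ^ 2) ^ j = c
      rw [← hk, hj, ← zpow_natCast a, ← zpow_mul]
      simp
    set d := α a with hd
    have hCd2 : C = zpowers (d ^ 2) := by
      have h1 : C.map α.toMonoidHom = C :=
        Subgroup.characteristic_iff_map_eq.1 (inferInstance : (commutator X).Characteristic) α
      conv_lhs => rw [← h1, hCa2, MonoidHom.map_zpowers]
      simp [hd]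
    have hdN : d ∉ N := by
      intro hdN
      have hle : N.map α.toMonoidHom ≤ N := by
        rw [hNa, MonoidHom.map_zpowers, zpowers_le, ← hNa]; exact hdN
      refine hno N ?_ (eq_of_le_of_card_ge hle (le_of_eq (card_map_of_injective α.injective).symm))
      have hbN : b ∉ N := fun hbN => by
        have ht : (⊤ : Subgroup X) ≤ N := hgen ▸ (closure_le _).2 (by rintro x (rfl | rfl) <;> assumption)
        have hbz : Abelianization.of b ∈ zpowers (Abelianization.of a) := by
          rw [hNa] at hbN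
          obtain ⟨i, hi⟩ := hbN
          exact ⟨i, by show Abelianization.of a ^ i = _; rw [← map_zpow]; exact congrArg _ hi⟩
        have := Subgroup.disjoint_def.1 hdis hbz (mem_zpowers _)
        simp [this] at hob
      have hb2 : b ^ 2 ∈ N := hCN ((hofC _).1 (by simpa using hexp (Abelianization.of b)))
      rw [index_eq_card, ← Subgroup.card_top (G := X ⧸ N),
        show (⊤ : Subgroup (X ⧸ N)) = zpowers (QuotientGroup.mk b) from
          (eq_top_iff.2 fun z _ => hbq z).symm, Nat.card_zpowers]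
      exact orderOf_eq_prime ((QuotientGroup.eq_one_iff _).2 hb2) fun e => hbN ((QuotientGroup.eq_one_iff _).1 e)
    have hgend : closure ({a, d} : Set X) = ⊤ := by
      refine eq_top_iff.2 fun x _ => ?_
      have key : ∀ x, ∃ i : ℤ, (b ^ i)⁻¹ * x ∈ N := fun x => by
        obtain ⟨i, hi⟩ := hbq (QuotientGroup.mk x)
        exact ⟨i, QuotientGroup.eq.1 (by rw [← hi]; rfl)⟩
      have hb2 : b ^ 2 ∈ N := hCN ((hofC _).1 (by simpa using hexp (Abelianization.of b)))
      obtain ⟨i, hi⟩ := key d
      have hbd : b⁻¹ * d ∈ N := by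
        rcases Int.even_or_odd i with ⟨j, hj⟩ | ⟨j, hj⟩
        · exfalso
          refine hdN ?_
          have hb : b ^ i ∈ N := by
            rw [hj, ← two_mul, zpow_mul, zpow_ofNat]; exact zpow_mem hb2 j
          simpa using mul_mem hb hi
        · have hb : (b ^ 2) ^ j ∈ N := zpow_mem hb2 j
          have := mul_mem hb hi
          have e : (b ^ 2) ^ j * ((b ^ i)⁻¹ * d) = b⁻¹ * d := by
            rw [← mul_assoc, hj, ← zpow_natCast b 2, ← zpow_mul, ← zpow_neg, ← zpow_add]
            congr 1
            rw [← zpow_neg_one]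
            congr 1
            push_cast
            ring
          rwa [e] at this
      have hNle : N ≤ closure ({a, d} : Set X) := by
        rw [hNa, zpowers_le]; exact mem_closure_of_mem (Set.mem_insert _ _)
      have hb : b ∈ closure ({a, d} : Set X) := by
        have := mul_mem (mem_closure_of_mem (show d ∈ ({a, d} : Set X) from Set.mem_insert_of_mem _ rfl))
          (inv_mem (hNle hbd))
        simpa using this
      have := hgen ▸ mem_top x
      exact (closure_le _).2 (by rintro y (rfl | rfl); exacts [hNle haN, hb]) this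
    -- `a ^ 2` commutes with `d`
    have hcommd : ∀ y ∈ C, Commute d y := by
      intro y hy
      rw [hCd2] at hy
      obtain ⟨i, rfl⟩ := hy
      exact ((Commute.refl d).pow_right 2).zpow_right i
    have hcomma : ∀ y ∈ C, Commute a y := by
      intro y hy
      rw [hCa2] at hy
      obtain ⟨i, rfl⟩ := hy
      exact ((Commute.refl a).pow_right 2).zpow_right i
    have hcen : ∀ y ∈ C, y ∈ center X := by
      intro y hy
      rw [mem_center_iff]
      intro g
      have hle : closure ({a, d} : Set X) ≤ centralizer {y} := (closure_le _).2 (by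
        rintro x (rfl | rfl)
        · exact mem_centralizer_singleton_iff.2 (hcomma y hy).eq
        · exact mem_centralizer_singleton_iff.2 (hcommd y hy).eq)
      exact mem_centralizer_singleton_iff.1 (hle (hgend ▸ mem_top g))
    set t := ⁅d, a⁆ with ht
    have htC : t ∈ C := commutator_mem_commutator (mem_top _) (mem_top _)
    have ha2C : a ^ 2 ∈ C := by simpa using haC
    have ht2 : t ^ 2 = 1 := by
      rw [ht, ← CfsgLib.PGroup.commutatorElement_pow_right_of_central (hcen _ htC) 2,
        commutatorElement_eq_one_iff_mul_comm]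
      exact (hcommd _ ha2C).eq
    have hCt : C = zpowers t := by
      refine le_antisymm ?_ (zpowers_le.2 htC)
      have : (zpowers t).Normal := ⟨fun x hx g => by
        obtain ⟨i, rfl⟩ := hx
        refine ⟨i, ?_⟩
        show t ^ i = g * t ^ i * g⁻¹
        rw [(mem_center_iff.1 (zpow_mem (hcen _ htC) i) g), mul_inv_cancel_right]⟩
      rw [hC]
      refine (Normal.quotient_commutative_iff_commutator_le (N := zpowers t)).1 ⟨⟨?_⟩⟩
      let π := QuotientGroup.mk' (zpowers t)
      have hc : Commute (π d) (π a) := by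
        show π d * π a = π a * π d
        rw [← commutatorElement_eq_one_iff_mul_comm, ← map_commutatorElement]
        exact (QuotientGroup.eq_one_iff _).2 (mem_zpowers t)
      have htop : closure ({π a, π d} : Set (X ⧸ zpowers t)) = ⊤ := by
        have := congrArg (Subgroup.map π) hgend
        rwa [MonoidHom.map_closure, map_top_of_surjective _ (QuotientGroup.mk'_surjective _),
          Set.image_pair] at this
      have := Subgroup.isMulCommutative_closure (k := ({π a, π d} : Set (X ⧸ zpowers t))) (by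
        rintro x (rfl | rfl) y (rfl | rfl) <;> first | rfl | exact hc.eq | exact hc.eq.symm)
      intro x y
      exact congrArg Subtype.val (this.is_comm.comm ⟨x, htop ▸ mem_top x⟩ ⟨y, htop ▸ mem_top y⟩)
    have ht1 : t ≠ 1 := fun e => hCbot (by rw [hCt, e, zpowers_one_eq_bot])
    have hC2 : ∀ y ∈ C, y = 1 ∨ y = t := by
      intro y hy
      rw [hCt] at hy
      obtain ⟨i, rfl⟩ := hy
      have h2 : t ^ (2 : ℤ) = 1 := by rw [show (2 : ℤ) = ((2 : ℕ) : ℤ) from rfl, zpow_natCast]; exact ht2
      rcases Int.even_or_odd i with ⟨j, hj⟩ | ⟨j, hj⟩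
      · left; show t ^ i = 1; rw [hj, ← two_mul, zpow_mul, h2, one_zpow]
      · right; show t ^ i = t; rw [hj, zpow_add, zpow_mul, h2, one_zpow, one_mul, zpow_one]
    have hsqC : ∀ x : X, x ^ 2 ∈ C := fun x => (hofC _).1 (by simpa using hexp (Abelianization.of x))
    have hx4 : ∀ x : X, x ^ 4 = 1 := by
      intro x
      rcases hC2 _ (hsqC x) with h | h <;>
        rw [show 4 = 2 * 2 from rfl, pow_mul, h]
      · exact one_pow 2
      · exact ht2
    have ha2 : a ^ 2 = t := (hC2 _ ha2C).resolve_left fun e => hCbot (by rw [hCa2, e, zpowers_one_eq_bot])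
    have hd2 : d ^ 2 = t := by rw [hd, ← map_pow, ha2]; exact (hC2 _ (by
      rw [hC, ← Subgroup.characteristic_iff_map_eq.1 (inferInstance : (commutator X).Characteristic) α]
      exact mem_map_of_mem _ htC)).resolve_left fun e => ht1 (α.injective (e.trans (map_one α).symm))
    have hord2 : ∀ x : X, orderOf x = 2 → x = t := by
      intro x hx
      have hx2 : x ^ 2 = 1 := hx ▸ pow_orderOf_eq_one x
      have hx1 : x ≠ 1 := fun e => by simp [e] at hx
      -- write `x` as `a^i d^j c'`
      obtain ⟨i, j, hij⟩ : ∃ i j : ℤ, Abelianization.of x = Abelianization.of a ^ i * Abelianization.of d ^ j := by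
        have := hgenb a d hgend ▸ mem_top (Abelianization.of x)
        obtain ⟨i, j, e⟩ := Subgroup.mem_closure_pair.1 this
        exact ⟨i, j, e.symm⟩
      rw [← map_zpow, ← map_zpow, ← map_mul] at hij
      have hmem : (a ^ i * d ^ j)⁻¹ * x ∈ C := by rw [← hofC, map_mul, map_inv, hij, inv_mul_cancel]
      obtain ⟨e, he, rfl⟩ : ∃ e ∈ C, x = a ^ i * d ^ j * e :=
        ⟨_, hmem, (mul_inv_cancel_left _ _).symm⟩
      have hpar : ∀ (y : X) (i : ℤ), y ^ 2 = t → ∃ e ∈ C, y ^ i = e ∨ y ^ i = y * e := by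
        intro y i hy
        rcases Int.even_or_odd i with ⟨r, hr⟩ | ⟨r, hr⟩
        · refine ⟨t ^ r, zpow_mem htC r, Or.inl ?_⟩
          rw [hr, ← two_mul, zpow_mul, zpow_ofNat, hy]
        · refine ⟨t ^ r, zpow_mem htC r, Or.inr ?_⟩
          rw [hr, add_comm, zpow_add, zpow_one, zpow_mul, zpow_ofNat, hy]
      obtain ⟨e1, he1, h1⟩ := hpar a i ha2
      obtain ⟨e2, he2, h2⟩ := hpar d j hd2
      have hmv : ∀ e ∈ C, ∀ y : X, e * y = y * e := fun e he y => (mem_center_iff.1 (hcen e he) y).symm
      have hesq : ∀ e ∈ C, e ^ 2 = 1 := fun e he => by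
        rcases hC2 e he with h | h <;> simp [h, ht2]
      have key : ∀ (y e : X), e ∈ C → (y * e) ^ 2 = 1 → y ^ 2 = 1 := by
        intro y e he h
        rwa [(show Commute y e from (hmv e he y).symm).mul_pow, hesq e he, mul_one] at h
      rcases h1 with h1 | h1 <;> rcases h2 with h2 | h2 <;> rw [h1, h2] at hx2 hx1 ⊢
      · exact (hC2 _ (mul_mem (mul_mem he1 he2) he)).resolve_left hx1
      · exfalso
        rw [show e1 * (d * e2) * e = d * (e1 * e2 * e) by
          rw [← mul_assoc e1, hmv e1 he1 d]; simp only [mul_assoc]] at hx2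
        exact ht1 (hd2 ▸ key d _ (mul_mem (mul_mem he1 he2) he) hx2)
      · exfalso
        rw [show a * e1 * e2 * e = a * (e1 * e2 * e) by simp only [mul_assoc]] at hx2
        exact ht1 (ha2 ▸ key a _ (mul_mem (mul_mem he1 he2) he) hx2)
      · exfalso
        rw [show a * e1 * (d * e2) * e = a * d * (e1 * e2 * e) by
          rw [mul_assoc a e1, ← mul_assoc e1 d, hmv e1 he1 d]; simp only [mul_assoc]] at hx2
        have h := key (a * d) _ (mul_mem (mul_mem he1 he2) he) hx2
        rw [CfsgLib.PGroup.mul_pow_of_central (by rw [← ht]; exact hcen _ htC) 2, ha2, hd2, ← sq, ht2,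
          one_mul, show Nat.choose 2 2 = 1 from rfl, pow_one] at h
        exact ht1 h
    have hncomm : ¬ ∀ x y : X, x * y = y * x := fun h => hCbot (by
      rw [hC, _root_.commutator_def, commutator_eq_bot_iff_le_centralizer]
      intro x _ y _
      exact h y x)
    have hne2 : Nat.card X ≠ 2 := fun h2 => hncomm (by
      have := isCyclic_of_prime_card h2
      exact this.isMulCommutative.is_comm.comm)
    rcases CfsgLib.FewOrders.cyclic_four_or_quaternion hx4 t (orderOf_eq_prime ht2 ht1) hord2 hne2 with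
      ⟨hcyc, -⟩ | h
    · exact absurd hcyc.isMulCommutative.is_comm.comm hncomm
    · exact h
  · -- `n ≥ 2` is impossible
    exfalso
    let π := QuotientGroup.mk' D
    have hcentral : ∀ x y : X, ⁅π x, π y⁆ ∈ center (X ⧸ D) ∧ ⁅π x, π y⁆ ^ 2 = 1 := by
      intro x y
      have hm : ⁅x, y⁆ ∈ C := commutator_mem_commutator (mem_top _) (mem_top _)
      rw [← map_commutatorElement]
      refine ⟨?_, ?_⟩
      · rw [mem_center_iff]
        intro g
        obtain ⟨g, rfl⟩ := QuotientGroup.mk'_surjective D g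
        rw [← commutatorElement_eq_one_iff_mul_comm, ← map_commutatorElement]
        exact (QuotientGroup.eq_one_iff _).2 (hCD _ hm g)
      · rw [← map_pow]
        refine (QuotientGroup.eq_one_iff _).2 ?_
        rw [hCc] at hm
        obtain ⟨i, hi⟩ := hm
        refine ⟨i, ?_⟩
        show (c ^ 2) ^ i = _
        rw [← hi, ← zpow_natCast, ← zpow_natCast, ← zpow_mul, ← zpow_mul, mul_comm]
    let g : X →* X ⧸ D :=
      { toFun := fun x => π x ^ 2 ^ (n + 2)
        map_one' := by simp
        map_mul' := fun x y => by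
          rw [map_mul, CfsgLib.PGroup.mul_pow_of_central (hcentral y x).1]
          have hev : 2 ∣ (2 ^ (n + 2)).choose 2 := by
            rw [Nat.choose_two_right, show 2 ^ (n + 2) * (2 ^ (n + 2) - 1) = 2 * (2 * (2 ^ n * (2 ^ (n + 2) - 1))) by ring,
              Nat.mul_div_cancel_left _ (by norm_num)]
            exact dvd_mul_right 2 _
          obtain ⟨w, hw⟩ := hev
          rw [hw, pow_mul, (hcentral y x).2, one_pow, mul_one] }
    have hgC : ∀ x, g x = 1 ∨ g x = π c := by
      intro x
      have hm : x ^ 2 ^ (n + 2) ∈ C := (hofC _).1 (by rw [map_pow]; exact hexp _)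
      rw [hCc] at hm
      obtain ⟨i, hi⟩ := hm
      have he : g x = π c ^ i := by
        show π x ^ 2 ^ (n + 2) = _
        rw [← map_pow, ← map_zpow]; exact congrArg π hi.symm
      have h2 : π c ^ (2 : ℤ) = 1 := by
        rw [← map_zpow]; exact (QuotientGroup.eq_one_iff _).2 ⟨1, by simp [zpow_ofNat]⟩
      rcases Int.even_or_odd i with ⟨j, hj⟩ | ⟨j, hj⟩
      · left; rw [he, hj, ← two_mul, zpow_mul, h2, one_zpow]
      · right; rw [he, hj, zpow_add, zpow_mul, h2, one_zpow, one_mul, zpow_one]
    have hker : g.ker = ⊤ := by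
      by_contra hne
      obtain ⟨x0, hx0⟩ : ∃ x0, g x0 ≠ 1 := by
        by_contra h; push Not at h
        exact hne (eq_top_iff.2 fun x _ => h x)
      refine hno g.ker ?_ ?_
      · rw [index_eq_two_iff_exists_notMem_and]
        refine ⟨x0, hx0, fun y => ?_⟩
        rcases hgC y with h | h
        · exact Or.inr h
        · left
          have hc0 := (hgC x0).resolve_left hx0
          rw [MonoidHom.mem_ker, map_mul, h, hc0, ← sq, ← map_pow]
          exact (QuotientGroup.eq_one_iff _).2 (mem_zpowers _)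
      · refine eq_of_le_of_card_ge ?_ (le_of_eq (card_map_of_injective α.injective).symm)
        rintro _ ⟨x, hx, rfl⟩
        have hx' : x ^ 2 ^ (n + 2) ∈ D := (QuotientGroup.eq_one_iff _).1 (by rw [← hx]; rfl)
        refine (QuotientGroup.eq_one_iff (α x ^ 2 ^ (n + 2))).2 ?_
        rw [← map_pow]
        obtain ⟨i, hi⟩ := hx'
        have hαc : α c ∈ C := by
          rw [hC, ← Subgroup.characteristic_iff_map_eq.1 (inferInstance : (commutator X).Characteristic) α]
          exact mem_map_of_mem _ hcC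
        rw [hCc] at hαc
        obtain ⟨r, hr⟩ := hαc
        refine ⟨r * i, ?_⟩
        show (c ^ 2) ^ (r * i) = α (x ^ 2 ^ (n + 2))
        rw [← show (c ^ 2) ^ i = x ^ 2 ^ (n + 2) from hi, map_zpow, map_pow, ← show c ^ r = α c from hr,
          ← zpow_natCast (c ^ r) 2, ← zpow_natCast c 2, ← zpow_mul, ← zpow_mul, ← zpow_mul]
        congr 1
        ring
    have haD : a ^ 2 ^ (n + 2) ∈ D := (QuotientGroup.eq_one_iff _).1
      ((MonoidHom.mem_ker (f := g)).1 (hker ▸ mem_top a))
    obtain ⟨j, hj⟩ := hdvd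
    refine hcD ?_
    rw [← hk, hj, zpow_mul, zpow_natCast]
    exact zpow_mem haD j

end CfsgLib.MetaTwoAut
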